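import Mathlib.AlgebraicGeometry.ProjectiveSpectrum.Basic
import Mathlib.AlgebraicGeometry.Morphisms.Affine
/-!
Morphisms between `Proj`s given chartwise by a graded ring map.
-/

set_option autoImplicit false
set_option backward.isDefEq.respectTransparency false

universe u

open CategoryTheory AlgebraicGeometry HomogeneousLocalization

namespace Groth.Agent.ProjQuotLib

variable {σ τ : Type*} {A : Type u} {B : Type u} [CommRing A] [CommRing B]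
  [SetLike σ A] [AddSubgroupClass σ A] [SetLike τ B] [AddSubgroupClass τ B]
  {𝒜 : ℕ → σ} [GradedRing 𝒜] {ℬ : ℕ → τ} [GradedRing ℬ]
  (φ : A →+* B) (hφ : ∀ i a, a ∈ 𝒜 i → φ a ∈ ℬ i)

/-- The ring map on degree-zero homogeneous localizations induced by a graded ring map. -/
noncomputable def awayHom {f : A} {g : B} (e : φ f = g) : Away 𝒜 f →+* Away ℬ g :=
  HomogeneousLocalization.map (P := .powers f) (Q := .powers g)
    { toRingHom := φ, map_mem := fun h => hφ _ _ h }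
    (by rw [Submonoid.powers_le]; exact ⟨1, by simp [← e]⟩)

theorem awayHom_mk {f : A} {g : B} (e : φ f = g) {d : ℕ} (hf : f ∈ 𝒜 d) (k : ℕ) (a : A)
    (ha : a ∈ 𝒜 (k • d)) :
    awayHom φ hφ e (Away.mk 𝒜 hf k a ha) = Away.mk ℬ (e ▸ hφ _ _ hf) k (φ a) (hφ _ _ ha) := by
  apply val_injective
  simp [awayHom, Away.mk, HomogeneousLocalization.map_mk, e]

theorem awayHom_isLocalizationElem {f f' : A} {g g' : B} (e : φ f = g) (e' : φ f' = g') {d d' : ℕ}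
    (hf : f ∈ 𝒜 d) (hf' : f' ∈ 𝒜 d') :
    awayHom φ hφ e (Away.isLocalizationElem hf hf') =
      Away.isLocalizationElem (e ▸ hφ _ _ hf) (e' ▸ hφ _ _ hf') := by
  unfold Away.isLocalizationElem
  rw [awayHom_mk]
  apply val_injective
  simp [e']

theorem awayHom_val_comp {f : A} :
    (algebraMap (Away ℬ (φ f)) (Localization.Away (φ f))).comp (awayHom φ hφ (rfl : φ f = φ f)) =
      (Localization.awayMap φ f).comp (algebraMap (Away 𝒜 f) (Localization.Away f)) := by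
  ext x
  obtain ⟨⟨d, ⟨a, ha⟩, ⟨b, hb⟩, ⟨k, (rfl : _ = b)⟩⟩, rfl⟩ := mk_surjective x
  simp only [RingHom.comp_apply, awayHom, HomogeneousLocalization.map_mk]
  rw [HomogeneousLocalization.algebraMap_apply, HomogeneousLocalization.algebraMap_apply,
    val_mk, val_mk]
  simp only [Localization.awayMap, IsLocalization.Away.map]
  rw [Localization.mk_eq_mk', Localization.mk_eq_mk', IsLocalization.map_mk']
  rfl

theorem awayHom_injective (hinj : Function.Injective φ) {f : A} {g : B} (e : φ f = g) {d : ℕ}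
    (hf : f ∈ 𝒜 d) : Function.Injective (awayHom φ hφ e) := by
  rw [injective_iff_map_eq_zero]
  intro x hx
  obtain ⟨k, a, ha, rfl⟩ := Away.mk_surjective 𝒜 hf x
  rw [awayHom_mk] at hx
  have hx' := congr_arg HomogeneousLocalization.val hx
  rw [Away.val_mk, val_zero, Localization.mk_eq_mk', IsLocalization.mk'_eq_zero_iff] at hx'
  obtain ⟨⟨_, m, rfl⟩, hm⟩ := hx'
  apply val_injective
  rw [Away.val_mk, val_zero, Localization.mk_eq_mk', IsLocalization.mk'_eq_zero_iff]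
  refine ⟨⟨f ^ m, m, rfl⟩, hinj ?_⟩
  simpa [e] using hm

theorem SpecMap_awayToSection_awayι {f : A} {d : ℕ} (hf : f ∈ 𝒜 d) (hd : 0 < d) :
    Spec.map (Proj.awayToSection 𝒜 f) ≫ Proj.awayι 𝒜 f hf hd =
      (Proj.isAffineOpen_basicOpen 𝒜 f hf hd).fromSpec := by
  have hU := Proj.isAffineOpen_basicOpen 𝒜 f hf hd
  rw [← cancel_epi hU.isoSpec.hom, hU.isoSpec_hom_fromSpec]
  show (Proj.basicOpen 𝒜 f).toSpecΓ ≫ Spec.map (Proj.awayToSection 𝒜 f) ≫ _ = _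
  rw [← Category.assoc]
  show (Proj.basicOpenIsoSpec 𝒜 f hf hd).hom ≫ _ = _
  rw [← Proj.basicOpenIsoSpec_inv_ι, Iso.hom_inv_id_assoc]

theorem isIso_awayToSection {f : A} {d : ℕ} (hf : f ∈ 𝒜 d) (hd : 0 < d) :
    IsIso (Proj.awayToSection 𝒜 f) :=
  inferInstanceAs (IsIso (Proj.basicOpenIsoAway 𝒜 f hf hd).hom)

/-- A morphism given on a chart by a ring map is given by it on sections. -/
theorem awayToSection_appLE (h : Proj ℬ ⟶ Proj 𝒜) {f : A} {g : B} {d d' : ℕ} (hf : f ∈ 𝒜 d) (hd : 0 < d)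
    (hg : g ∈ ℬ d') (hd' : 0 < d') (θ : CommRingCat.of (Away 𝒜 f) ⟶ CommRingCat.of (Away ℬ g))
    (hh : Proj.awayι ℬ g hg hd' ≫ h = Spec.map θ ≫ Proj.awayι 𝒜 f hf hd)
    (e : Proj.basicOpen ℬ g ≤ h ⁻¹ᵁ Proj.basicOpen 𝒜 f) :
    Proj.awayToSection 𝒜 f ≫ h.appLE (Proj.basicOpen 𝒜 f) (Proj.basicOpen ℬ g) e =
      θ ≫ Proj.awayToSection ℬ g := by
  apply Spec.map_injective
  rw [← cancel_mono (Proj.awayι 𝒜 f hf hd), Spec.map_comp, Spec.map_comp, Category.assoc,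
    Category.assoc, SpecMap_awayToSection_awayι hf hd, ← hh, ← Category.assoc,
    SpecMap_awayToSection_awayι hg hd', IsAffineOpen.SpecMap_appLE_fromSpec]

theorem basicOpen_le_preimage (h : Proj ℬ ⟶ Proj 𝒜) {f : A} {g : B} {d d' : ℕ} (hf : f ∈ 𝒜 d) (hd : 0 < d)
    (hg : g ∈ ℬ d') (hd' : 0 < d') (θ : CommRingCat.of (Away 𝒜 f) ⟶ CommRingCat.of (Away ℬ g))
    (hh : Proj.awayι ℬ g hg hd' ≫ h = Spec.map θ ≫ Proj.awayι 𝒜 f hf hd) :
    Proj.basicOpen ℬ g ≤ h ⁻¹ᵁ Proj.basicOpen 𝒜 f := by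
  intro x hx
  rw [← Proj.opensRange_awayι ℬ g hg hd'] at hx
  obtain ⟨y, rfl⟩ := hx
  rw [← Proj.opensRange_awayι 𝒜 f hf hd]
  refine ⟨(Spec.map θ).base y, ?_⟩
  rw [← Scheme.Hom.comp_apply, ← Scheme.Hom.comp_apply, hh]

/-- If `D₊(g)`'s, `g = φ f`, cover `Proj ℬ` and `h` is the map `φ` on them, then
`h⁻¹ D₊(f) = D₊(φ f)`. -/
theorem preimage_basicOpen (h : Proj ℬ ⟶ Proj 𝒜)
    (hh : ∀ (n : ℕ) (f : A) (hn : 0 < n) (hf : f ∈ 𝒜 n),
      Proj.awayι ℬ (φ f) (hφ n f hf) hn ≫ h =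
        Spec.map (CommRingCat.ofHom (awayHom φ hφ (rfl : φ f = φ f))) ≫ Proj.awayι 𝒜 f hf hn)
    (hcov : ∀ x : Proj ℬ, ∃ (n : ℕ) (f : A), 0 < n ∧ f ∈ 𝒜 n ∧ x ∈ Proj.basicOpen ℬ (φ f))
    {n : ℕ} {f : A} (hn : 0 < n) (hf : f ∈ 𝒜 n) :
    h ⁻¹ᵁ Proj.basicOpen 𝒜 f = Proj.basicOpen ℬ (φ f) := by
  refine le_antisymm (fun x hx => ?_)
    (basicOpen_le_preimage h hf hn (hφ n f hf) hn _ (hh n f hn hf))
  obtain ⟨m, f', hm, hf', hxf'⟩ := hcov x
  rw [← Proj.opensRange_awayι ℬ (φ f') (hφ m f' hf') hm] at hxf'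
  obtain ⟨y, rfl⟩ := hxf'
  have e1 : (Proj.awayι ℬ (φ f') (hφ m f' hf') hm) ⁻¹ᵁ (h ⁻¹ᵁ Proj.basicOpen 𝒜 f) =
      (Proj.awayι ℬ (φ f') (hφ m f' hf') hm) ⁻¹ᵁ Proj.basicOpen ℬ (φ f) := by
    rw [← Scheme.Hom.comp_preimage, hh m f' hm hf', Scheme.Hom.comp_preimage,
      Proj.awayι_preimage_basicOpen 𝒜 hf' hm hf hn,
      Proj.awayι_preimage_basicOpen ℬ (hφ m f' hf') hm (hφ n f hf) hn]
    rw [show (PrimeSpectrum.basicOpen (Away.isLocalizationElem (hφ m f' hf') (hφ n f hf))) =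
      PrimeSpectrum.basicOpen (awayHom φ hφ (rfl : φ f' = φ f') (Away.isLocalizationElem hf' hf)) by
        rw [awayHom_isLocalizationElem φ hφ rfl rfl]]
    rfl
  have : y ∈ (Proj.awayι ℬ (φ f') (hφ m f' hf') hm) ⁻¹ᵁ (h ⁻¹ᵁ Proj.basicOpen 𝒜 f) := hx
  rw [e1] at this
  exact this

end Groth.Agent.ProjQuotLib
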