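import Groth.Agent.ProjQuotLib.Basic
import Groth.Agent.QuotLib.Local
import Groth.Prelude.Def_SGA1
import Mathlib.Algebra.Ring.Action.Basic
/-!
`Proj` of the ring of invariants of a finite group acting on a graded ring is the quotient.
-/

set_option autoImplicit false
set_option backward.isDefEq.respectTransparency false

universe u

open CategoryTheory AlgebraicGeometry HomogeneousLocalization TopologicalSpace

namespace Groth.Agent.ProjQuotLib

variable {σ τ : Type*} {A : Type u} {C : Type u} [CommRing A] [CommRing C]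
  [SetLike σ A] [AddSubgroupClass σ A] [SetLike τ C] [AddSubgroupClass τ C]
  {𝒜 : ℕ → σ} [GradedRing 𝒜] {𝒞 : ℕ → τ} [GradedRing 𝒞]
  {G : Type u} [Group G] [MulSemiringAction G A]

/-- If every invariant homogeneous element of positive degree comes from `C`, then every point of
`Proj A` avoids the image of some homogeneous element of `C` of positive degree. -/
theorem exists_image_not_mem [Finite G] (hGdeg : ∀ (g : G) (i : ℕ) (a : A), a ∈ 𝒜 i → g • a ∈ 𝒜 i)
    (j : C →+* A) (hsurj : ∀ i a, a ∈ 𝒜 i → (∀ g : G, g • a = a) → ∃ c ∈ 𝒞 i, j c = a)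
    (x : Proj 𝒜) :
    ∃ (n : ℕ) (c : C), 0 < n ∧ c ∈ 𝒞 n ∧ x ∈ Proj.basicOpen 𝒜 (j c) := by
  classical
  haveI := Fintype.ofFinite G
  haveI := x.isPrime
  by_contra hne
  push_neg at hne
  obtain ⟨n, hn, f, hf, hfx⟩ : ∃ n, 0 < n ∧ ∃ f ∈ 𝒜 n, f ∉ x.asHomogeneousIdeal := by
    by_contra hall
    push_neg at hall
    refine x.not_irrelevant_le fun z hz => ?_
    rw [← HomogeneousIdeal.mem_iff] at hz ⊢
    classical
    rw [← DirectSum.sum_support_decompose 𝒜 z]
    refine sum_mem fun i _ => ?_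
    rcases Nat.eq_zero_or_pos i with rfl | hi
    · have h0 : GradedRing.proj 𝒜 0 z = 0 := hz
      rw [GradedRing.proj_apply] at h0
      rw [h0]
      exact zero_mem _
    · exact hall i hi _ (SetLike.coe_mem _)
  apply hfx
  let a : G → A := fun g => g • f
  have h0 : ∏ g : G, (-(a g) + f) = 0 :=
    Finset.prod_eq_zero (Finset.mem_univ (1 : G)) (by simp [a])
  rw [Finset.prod_add, Finset.sum_powerset, Finset.sum_range_succ'] at h0
  have hsum : ∀ k : ℕ,
      ∑ t ∈ Finset.powersetCard (k + 1) (Finset.univ : Finset G),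
        (∏ g ∈ t, -(a g)) * ∏ _g ∈ Finset.univ \ t, f ∈ x.asHomogeneousIdeal := by
    intro k
    have e : ∀ t ∈ Finset.powersetCard (k + 1) (Finset.univ : Finset G),
        (∏ g ∈ t, -(a g)) * ∏ _g ∈ Finset.univ \ t, f =
          ((-1) ^ (k + 1) * f ^ (Fintype.card G - (k + 1))) * ∏ g ∈ t, a g := by
      intro t ht
      rw [Finset.mem_powersetCard] at ht
      rw [Finset.prod_neg, Finset.prod_const, Finset.card_univ_diff, ht.2]
      ring
    rw [Finset.sum_congr rfl e, ← Finset.mul_sum]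
    apply Ideal.mul_mem_left
    set E := ∑ t ∈ Finset.powersetCard (k + 1) (Finset.univ : Finset G), ∏ g ∈ t, a g with hE
    have hdeg : E ∈ 𝒜 ((k + 1) * n) := by
      refine sum_mem fun t ht => ?_
      rw [Finset.mem_powersetCard] at ht
      have := SetLike.prod_mem_graded (A := 𝒜) (fun _ => n) a (F := t) fun g _ => hGdeg g n f hf
      simpa [ht.2] using this
    have hinv : ∀ h : G, h • E = E := by
      intro h
      rw [hE, Finset.smul_sum]
      refine Finset.sum_nbij' (fun t => t.image (h * ·)) (fun t => t.image (h⁻¹ * ·)) ?_ ?_ ?_ ?_ ?_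
      · intro t ht
        simp only [Finset.mem_coe, Finset.mem_powersetCard] at ht ⊢
        exact ⟨Finset.subset_univ _, by
          rw [Finset.card_image_of_injective _ (mul_right_injective h)]; exact ht.2⟩
      · intro t ht
        simp only [Finset.mem_coe, Finset.mem_powersetCard] at ht ⊢
        exact ⟨Finset.subset_univ _, by
          rw [Finset.card_image_of_injective _ (mul_right_injective h⁻¹)]; exact ht.2⟩
      · intro t _
        rw [Finset.image_image]
        convert Finset.image_id (s := t)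
        ext; simp
      · intro t _
        rw [Finset.image_image]
        convert Finset.image_id (s := t)
        ext; simp
      · intro t _
        rw [Finset.smul_prod', Finset.prod_image fun _ _ _ _ e => mul_right_injective h e]
        simp [a, mul_smul]
    obtain ⟨c, hc, hcE⟩ := hsurj _ _ hdeg hinv
    have := hne _ c (Nat.mul_pos k.succ_pos hn) hc
    rw [Proj.mem_basicOpen, not_not] at this
    rw [← hcE]
    exact this
  have hfN : f ^ Fintype.card G ∈ x.asHomogeneousIdeal := by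
    have h1 : ∑ t ∈ Finset.powersetCard 0 (Finset.univ : Finset G),
        (∏ g ∈ t, -(a g)) * ∏ _g ∈ Finset.univ \ t, f = f ^ Fintype.card G := by
      simp
    rw [h1] at h0
    rw [eq_neg_of_add_eq_zero_right h0, ← HomogeneousIdeal.mem_iff]
    exact x.asHomogeneousIdeal.toIdeal.neg_mem (sum_mem fun k _ => hsum k)
  exact Ideal.IsPrime.mem_of_pow_mem x.isPrime _ hfN

theorem isBasis_basicOpen_pos :
    Opens.IsBasis { U : (Proj 𝒞).Opens |
      ∃ (n : ℕ) (c : C), 0 < n ∧ c ∈ 𝒞 n ∧ U = Proj.basicOpen 𝒞 c } := by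
  rw [Opens.isBasis_iff_nbhd]
  intro U x hx
  obtain ⟨_, ⟨f, rfl⟩, hxf, hfU⟩ := (Opens.isBasis_iff_nbhd.mp (Proj.isBasis_basicOpen 𝒞)) hx
  have hxf' := hxf
  rw [Proj.basicOpen_eq_iSup_proj, Opens.mem_iSup] at hxf'
  obtain ⟨i, hi⟩ := hxf'
  obtain ⟨m, hm, g, hg, hgx⟩ : ∃ m, 0 < m ∧ ∃ g ∈ 𝒞 m, x ∈ Proj.basicOpen 𝒞 g := by
    by_contra hall
    push_neg at hall
    refine x.not_irrelevant_le fun z hz => ?_
    rw [← HomogeneousIdeal.mem_iff] at hz ⊢
    classical
    rw [← DirectSum.sum_support_decompose 𝒞 z]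
    refine sum_mem fun i _ => ?_
    rcases Nat.eq_zero_or_pos i with rfl | hi
    · have h0 : GradedRing.proj 𝒞 0 z = 0 := hz
      rw [GradedRing.proj_apply] at h0
      rw [h0]
      exact zero_mem _
    · have := hall i hi _ (SetLike.coe_mem (DirectSum.decompose 𝒞 z i))
      rw [Proj.mem_basicOpen, not_not] at this
      exact this
  have hmem : GradedRing.proj 𝒞 i f * g ∈ 𝒞 (i + m) := by
    rw [GradedRing.proj_apply]
    exact SetLike.mul_mem_graded (SetLike.coe_mem _) hg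
  refine ⟨_, ⟨i + m, _, by omega, hmem, rfl⟩, ?_, ?_⟩
  · rw [Proj.basicOpen_mul]; exact ⟨hi, hgx⟩
  · refine le_trans ?_ hfU
    rw [Proj.basicOpen_mul]
    exact inf_le_left.trans ((le_iSup (fun i => Proj.basicOpen 𝒞 (GradedRing.proj 𝒞 i f)) i).trans
      (Proj.basicOpen_eq_iSup_proj 𝒞 f).ge)

/-- The main statement. -/
theorem isQuot_proj_of_invariants [Finite G]
    (hGdeg : ∀ (g : G) (i : ℕ) (a : A), a ∈ 𝒜 i → g • a ∈ 𝒜 i)
    (j : C →+* A) (hinj : Function.Injective j) (hjdeg : ∀ i c, c ∈ 𝒞 i → j c ∈ 𝒜 i)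
    (hjinv : ∀ i c, c ∈ 𝒞 i → ∀ g : G, g • j c = j c)
    (hsurj : ∀ i a, a ∈ 𝒜 i → (∀ g : G, g • a = a) → ∃ c ∈ 𝒞 i, j c = a)
    (ρ : G →* Aut (Proj 𝒜))
    (hρ : ∀ (g : G) (n : ℕ) (f f' : A) (hn : 0 < n) (hf : f ∈ 𝒜 n)
      (e : MulSemiringAction.toRingHom G A g f = f'),
      Proj.awayι 𝒜 f' (e ▸ hGdeg g n f hf) hn ≫ (ρ g).inv =
        Spec.map (CommRingCat.ofHom (awayHom (MulSemiringAction.toRingHom G A g) (hGdeg g) e)) ≫
          Proj.awayι 𝒜 f hf hn)
    (π : Proj 𝒜 ⟶ Proj 𝒞)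
    (hπ : ∀ (n : ℕ) (c : C) (hn : 0 < n) (hc : c ∈ 𝒞 n),
      Proj.awayι 𝒜 (j c) (hjdeg n c hc) hn ≫ π =
        Spec.map (CommRingCat.ofHom (awayHom j hjdeg (rfl : j c = j c))) ≫ Proj.awayι 𝒞 c hc hn) :
    SGA1.IsQuot ρ π := by
  classical
  haveI := Fintype.ofFinite G
  have hcov := exists_image_not_mem hGdeg j hsurj
  have hpre : ∀ (n : ℕ) (c : C), 0 < n → c ∈ 𝒞 n →
      π ⁻¹ᵁ Proj.basicOpen 𝒞 c = Proj.basicOpen 𝒜 (j c) :=
    fun n c hn hc => preimage_basicOpen j hjdeg π hπ hcov hn hc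
  have hσc : ∀ (g : G) (n : ℕ) (c : C) (hc : c ∈ 𝒞 n),
      (awayHom (MulSemiringAction.toRingHom G A g) (hGdeg g)
        (show MulSemiringAction.toRingHom G A g (j c) = j c from hjinv n c hc g)).comp
        (awayHom j hjdeg (rfl : j c = j c)) = awayHom j hjdeg rfl := by
    intro g n c hc
    refine RingHom.ext fun z => ?_
    obtain ⟨k, a, ha, rfl⟩ := Away.mk_surjective 𝒞 hc z
    rw [RingHom.comp_apply, awayHom_mk, awayHom_mk]
    apply val_injective
    rw [Away.val_mk, Away.val_mk]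
    congr 1
    exact hjinv _ a ha g
  have hinv' : ∀ g : G, (ρ g).inv ≫ π = π := by
    intro g
    choose N cc hN hcc hxc using hcov
    refine ((Proj 𝒜).openCoverOfIsOpenCover (fun x : Proj 𝒜 => Proj.basicOpen 𝒜 (j (cc x))) ?_).hom_ext
      _ _ fun x => ?_
    · exact eq_top_iff.mpr fun x _ => Opens.mem_iSup.mpr ⟨x, hxc x⟩
    show (Proj.basicOpen 𝒜 (j (cc x))).ι ≫ _ = (Proj.basicOpen 𝒜 (j (cc x))).ι ≫ _
    have hd : j (cc x) ∈ 𝒜 (N x) := hjdeg _ _ (hcc x)
    rw [← cancel_epi (Proj.basicOpenIsoSpec 𝒜 (j (cc x)) hd (hN x)).inv,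
      ← Category.assoc, ← Category.assoc, Proj.basicOpenIsoSpec_inv_ι, ← Category.assoc,
      hρ g (N x) _ _ (hN x) hd (hjinv _ _ (hcc x) g), Category.assoc, hπ _ _ (hN x) (hcc x),
      ← Category.assoc, ← Spec.map_comp, ← CommRingCat.ofHom_comp, hσc g _ _ (hcc x),
      Proj.basicOpenIsoSpec_inv_ι, hπ _ _ (hN x) (hcc x)]
  have hhom : ∀ g : G, (ρ g).hom = (ρ g⁻¹).inv := fun g => by rw [map_inv]; rfl
  have hinv : ∀ g : G, (ρ g).hom ≫ π = π := fun g => by rw [hhom]; exact hinv' _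
  haveI : IsAffineHom π := by
    refine isAffineHom_of_forall_exists_isAffineOpen π fun y => ?_
    obtain ⟨_, ⟨n, c, hn, hc, rfl⟩, hy, -⟩ :=
      (Opens.isBasis_iff_nbhd.mp (isBasis_basicOpen_pos (𝒞 := 𝒞))) (Opens.mem_top y)
    exact ⟨_, hy, Proj.isAffineOpen_basicOpen 𝒞 c hc hn,
      hpre n c hn hc ▸ Proj.isAffineOpen_basicOpen 𝒜 (j c) (hjdeg n c hc) hn⟩
  have key : ∀ (n : ℕ) (c : C) (hn : 0 < n) (hc : c ∈ 𝒞 n),
      ∃ T : CommRingCat.of (Away 𝒜 (j c)) ⟶ Γ(Proj 𝒜, π ⁻¹ᵁ Proj.basicOpen 𝒞 c), IsIso T ∧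
        Proj.awayToSection 𝒞 c ≫ π.app (Proj.basicOpen 𝒞 c) =
          CommRingCat.ofHom (awayHom j hjdeg (rfl : j c = j c)) ≫ T ∧
        ∀ g : G, T ≫ (ρ g).hom.appLE _ _ (SGA1.preimage_le_of_inv ρ π hinv g _) =
          CommRingCat.ofHom (awayHom (MulSemiringAction.toRingHom G A g⁻¹) (hGdeg g⁻¹)
            (show MulSemiringAction.toRingHom G A g⁻¹ (j c) = j c from hjinv n c hc g⁻¹)) ≫ T := by
    intro n c hn hc
    have hd := hjdeg n c hc
    have e := hpre n c hn hc
    refine ⟨Proj.awayToSection 𝒜 (j c) ≫ (Proj 𝒜).presheaf.map (homOfLE e.le).op, ?_, ?_, fun g => ?_⟩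
    · haveI := isIso_awayToSection (𝒜 := 𝒜) hd hn
      haveI : IsIso (homOfLE e.le) := ⟨homOfLE e.ge, Subsingleton.elim _ _, Subsingleton.elim _ _⟩
      infer_instance
    · rw [← Category.assoc, ← awayToSection_appLE π hc hn hd hn _ (hπ n c hn hc) e.ge,
        Category.assoc, Scheme.Hom.appLE_map, Scheme.Hom.app_eq_appLE]
    · rw [Category.assoc, Scheme.Hom.map_appLE, ← Category.assoc,
        ← awayToSection_appLE (ρ g).hom hd hn hd hn _ ?_ ?_, Category.assoc, Scheme.Hom.appLE_map]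
      · rw [hhom]; exact hρ g⁻¹ n _ _ hn hd _
      · intro y hy
        exact e.le (SGA1.preimage_le_of_inv ρ π hinv g _ (e.ge hy))
  refine QuotLib.isQuot_of_basis (ρ := ρ) (p := π) (hinv := hinv) _
    (isBasis_basicOpen_pos (𝒞 := 𝒞)) ?_ ?_
  · rintro _ ⟨n, c, hn, hc, rfl⟩
    obtain ⟨T, hT, hTπ, -⟩ := key n c hn hc
    haveI := hT
    haveI := isIso_awayToSection (𝒜 := 𝒞) hc hn
    have hπapp : π.app (Proj.basicOpen 𝒞 c) = inv (Proj.awayToSection 𝒞 c) ≫
        CommRingCat.ofHom (awayHom j hjdeg (rfl : j c = j c)) ≫ T := by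
      rw [← hTπ, IsIso.inv_hom_id_assoc]
    rw [hπapp]
    exact ((ConcreteCategory.bijective_of_isIso T).injective.comp
      ((awayHom_injective j hjdeg hinj rfl hc).comp
        (ConcreteCategory.bijective_of_isIso (inv (Proj.awayToSection 𝒞 c))).injective))
  · rintro _ ⟨n, c, hn, hc, rfl⟩ s hs
    obtain ⟨T, hT, hTπ, hTσ⟩ := key n c hn hc
    haveI := hT
    obtain ⟨z, rfl⟩ := (ConcreteCategory.bijective_of_isIso T).surjective s
    have hz : ∀ g : G, awayHom (MulSemiringAction.toRingHom G A g) (hGdeg g)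
        (show MulSemiringAction.toRingHom G A g (j c) = j c from hjinv n c hc g) z = z := by
      intro g
      apply (ConcreteCategory.bijective_of_isIso T).injective
      have h1 := congr_arg (fun m => m.hom z) (hTσ g⁻¹)
      simp only [CommRingCat.hom_comp, RingHom.comp_apply, CommRingCat.hom_ofHom, inv_inv] at h1
      exact h1.symm.trans (hs g⁻¹)
    have hd := hjdeg n c hc
    obtain ⟨k, b, hb, rfl⟩ := Away.mk_surjective 𝒜 hd z
    have hm : ∀ g : G, ∃ m : ℕ, j c ^ m * (g • b) = j c ^ m * b := by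
      intro g
      have h1 := congr_arg HomogeneousLocalization.val (hz g)
      rw [awayHom_mk, Away.val_mk, Away.val_mk, Localization.mk_eq_mk', IsLocalization.eq] at h1
      obtain ⟨⟨_, m, rfl⟩, h2⟩ := h1
      refine ⟨m + k, ?_⟩
      rw [pow_add, mul_assoc, mul_assoc]
      exact h2
    choose m hm using hm
    set M := Finset.univ.sup m
    have hMinv : ∀ g : G, g • (j c ^ M * b) = j c ^ M * b := by
      intro g
      have hle : m g ≤ M := Finset.le_sup (Finset.mem_univ g)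
      rw [smul_mul', smul_pow', hjinv n c hc g, ← Nat.add_sub_cancel' hle, pow_add,
        mul_right_comm (j c ^ m g), hm g]
      ring
    have hdeg' : j c ^ M * b ∈ 𝒜 ((M + k) • n) := by
      rw [add_smul]
      exact SetLike.mul_mem_graded (SetLike.pow_mem_graded M hd) hb
    obtain ⟨a, ha, hab⟩ := hsurj _ _ hdeg' hMinv
    refine ⟨Proj.awayToSection 𝒞 c (Away.mk 𝒞 hc (M + k) a ha), ?_⟩
    have h1 := congr_arg (fun q => q.hom (Away.mk 𝒞 hc (M + k) a ha)) hTπ
    simp only [CommRingCat.hom_comp, RingHom.comp_apply, CommRingCat.hom_ofHom] at h1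
    refine h1.trans ?_
    congr 1
    rw [awayHom_mk]
    apply val_injective
    rw [Away.val_mk, Away.val_mk, Localization.mk_eq_mk', IsLocalization.eq]
    refine ⟨1, ?_⟩
    simp only [OneMemClass.coe_one, one_mul, hab]
    ring

end Groth.Agent.ProjQuotLib
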